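import Mathlib
import Groth.Agent.ComodBasic.Chevalley

/-!
# A character of a Hopf algebra nontrivial on a central multiplicative subgroup
-/

suppress_compilation

universe u

open WithConv LaurentPolynomial CoalgebraStruct TensorProduct HopfRep

namespace Groth.Agent.GmChar

open Groth.Agent.ComodBasic

variable {k : Type u} [Field k]

/-- the point of `𝔾_m` given by a unit -/
def pt {C : Type u} [CommRing C] [Algebra k C] (v : Cˣ) : k[T;T⁻¹] →ₐ[k] C :=
  AddMonoidAlgebra.lift k C ℤ ((Units.coeHom C).comp (zpowersHom Cˣ v))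

lemma pt_T {C : Type u} [CommRing C] [Algebra k C] (v : Cˣ) (a : ℤ) :
    pt (k := k) v (T a) = ((v ^ a : Cˣ) : C) := by
  show AddMonoidAlgebra.lift k C ℤ _ (AddMonoidAlgebra.single a 1) = _
  rw [AddMonoidAlgebra.lift_single, one_smul]
  rfl

/-- the generator of `R[T,T⁻¹]` as a unit -/
def unitT (R : Type u) [CommRing R] : (R[T;T⁻¹])ˣ := (isUnit_T (R := R) 1).unit

lemma coe_unitT (R : Type u) [CommRing R] : (unitT R : R[T;T⁻¹]) = T 1 := IsUnit.unit_spec _

lemma coe_unitT_zpow (R : Type u) [CommRing R] (a : ℤ) :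
    ((unitT R ^ a : (R[T;T⁻¹])ˣ) : R[T;T⁻¹]) = T a := by
  induction a with
  | zero => simp [T_zero]
  | succ n ih => rw [zpow_add, zpow_one, Units.val_mul, ih, coe_unitT, ← T_add]
  | pred n ih =>
    rw [zpow_sub, zpow_one, Units.val_mul, ih, Units.mul_inv_eq_iff_eq_mul, coe_unitT, ← T_add,
      sub_add_cancel]

lemma algHom_ext_T {C : Type u} [CommRing C] [Algebra k C] {f g : k[T;T⁻¹] →ₐ[k] C}
    (h : f (T 1) = g (T 1)) : f = g := by
  have hv : ∀ (φ : k[T;T⁻¹] →ₐ[k] C) (a : ℤ),
      φ (T a) = ((Units.map φ.toMonoidHom (unitT k)) ^ a : Cˣ) := by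
    intro φ a
    rw [← map_zpow, ← coe_unitT_zpow]
    rfl
  refine AddMonoidAlgebra.algHom_ext (fun a => ?_) (by ext)
  change f (T a) = g (T a)
  rw [hv f, hv g]
  have : Units.map f.toMonoidHom (unitT k) = Units.map g.toMonoidHom (unitT k) :=
    Units.ext (by simpa [coe_unitT] using h)
  rw [this]

/-- the coefficient of `T` -/
def co (R : Type u) [CommRing R] : R[T;T⁻¹] →+ R where
  toFun x := x.coeff 1
  map_zero' := rfl
  map_add' _ _ := rfl

lemma co_C_mul (R : Type u) [CommRing R] (r : R) (x : R[T;T⁻¹]) :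
    co R (LaurentPolynomial.C r * x) = r * co R x := by
  rw [← smul_eq_C_mul]
  rfl

lemma co_mul_C (R : Type u) [CommRing R] (r : R) (x : R[T;T⁻¹]) :
    co R (x * LaurentPolynomial.C r) = co R x * r := by
  rw [_root_.mul_comm, co_C_mul, _root_.mul_comm]

lemma co_T (R : Type u) [CommRing R] (a : ℤ) : co R (T a) = if a = 1 then 1 else 0 := by
  show (AddMonoidAlgebra.single a (1 : R)).coeff 1 = _
  simp [AddMonoidAlgebra.coeff_single, Finsupp.single_apply, eq_comm]

variable (A : Type u) [CommRing A] [HopfAlgebra k A]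

/-- every element lies in the span of the entries of a multiplicative matrix -/
theorem exists_coef_span (f : A) :
    ∃ (J : Type u) (_ : Fintype J) (_ : DecidableEq J) (c : Matrix J J A),
      (∀ i j, comul (R := k) (c i j) = ∑ l, c i l ⊗ₜ[k] c l j) ∧
      (∀ i j, counit (R := k) (c i j) = if i = j then (1 : k) else 0) ∧
      f ∈ Submodule.span k (Set.range fun p : J × J => c p.1 p.2) := by
  classical
  obtain ⟨M, hM, hsM⟩ := exists_finite_subcomod_of_finite (k := k) (C := A) (V := A) {f}
    (Set.finite_singleton f)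
  haveI : Module.Finite k (M.restrictScalars k) := hM
  letI cM : Comod k A (M.restrictScalars k) :=
    ComodSub.Comod.restr (Comod.regular k A) _ (isSubcomod_restrict M)
  haveI : Module.Free k (M.restrictScalars k) := Module.Free.of_divisionRing k _
  let b := Module.Free.chooseBasis k (M.restrictScalars k)
  let f0 : M.restrictScalars k := ⟨f, hsM rfl⟩
  refine ⟨_, inferInstance, inferInstance, coefMatrix (A := A) b, comul_coefMatrix b,
    counit_coefMatrix b, ?_⟩
  let ε : M.restrictScalars k →ₗ[k] k := counit (R := k) (A := A) ∘ₗ (M.restrictScalars k).subtype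
  have h1 : lslice ε (Comod.coact (k := k) (A := A) f0) = f := by
    have h2 := LinearMap.congr_fun (ComodSub.isComodHom_subtype (Comod.regular k A) _
      (isSubcomod_restrict M)) f0
    simp only [LinearMap.comp_apply] at h2
    rw [← lslice_rTensor, ← h2]
    show lslice counit (comul (R := k) f) = f
    rw [lslice, LinearMap.comp_apply, Coalgebra.rTensor_counit_comul]
    simp
  rw [← h1, ← b.sum_repr f0]
  simp only [map_sum, map_smul]
  refine Submodule.sum_mem _ fun j _ => Submodule.smul_mem _ _ ?_
  rw [coact_eq_sum]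
  simp only [map_sum, lslice_tmul]
  exact Submodule.sum_mem _ fun i _ => Submodule.smul_mem _ _ (Submodule.subset_span ⟨(i, j), rfl⟩)

variable {A}
variable {J : Type u} [Fintype J] [DecidableEq J] (c : Matrix J J A)

/-- the matrix of a point -/
def mat {C : Type u} [CommRing C] [Algebra k C] (g : WithConv (A →ₐ[k] C)) : Matrix J J C :=
  c.map g.ofConv

lemma mat_mul (hΔ : ∀ i j, comul (R := k) (c i j) = ∑ l, c i l ⊗ₜ[k] c l j)
    {C : Type u} [CommRing C] [Algebra k C] (g h : WithConv (A →ₐ[k] C)) :
    mat c (g * h) = mat c g * mat c h := by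
  ext i j
  simp [mat, Matrix.mul_apply, AlgHom.convMul_def, hΔ, map_sum]

lemma mat_one (hε : ∀ i j, counit (R := k) (c i j) = if i = j then (1 : k) else 0)
    {C : Type u} [CommRing C] [Algebra k C] : mat c (1 : WithConv (A →ₐ[k] C)) = 1 := by
  ext i j
  simp [mat, AlgHom.convOne_def, hε, Matrix.one_apply, apply_ite (algebraMap k C)]

lemma mat_comp {C D : Type u} [CommRing C] [Algebra k C] [CommRing D] [Algebra k D]
    (g : A →ₐ[k] C) (φ : C →ₐ[k] D) :
    mat c (toConv (φ.comp g)) = (mat c (toConv g)).map φ := by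
  ext i j
  simp [mat]

/-- the scalar determinant of a projector -/
lemma det_smul_idem {ι : Type*} [Fintype ι] [DecidableEq ι] (P : Matrix ι ι k) (hP : P * P = P)
    (hne : P ≠ 0) : ∃ n : ℕ, 1 ≤ n ∧ ∀ (S : Type u) [CommRing S] [Algebra k S] (t : S),
      (t • P.map (algebraMap k S) + (1 - P.map (algebraMap k S))).det = t ^ n := by
  classical
  let f := Matrix.toLin' P
  let W := LinearMap.range f
  haveI : Module.Free k W := Module.Free.of_divisionRing k W
  let b := Module.finBasis k W
  let U : Matrix ι (Fin (Module.finrank k W)) k :=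
    LinearMap.toMatrix b (Pi.basisFun k ι) W.subtype
  let V : Matrix (Fin (Module.finrank k W)) ι k :=
    LinearMap.toMatrix (Pi.basisFun k ι) b f.rangeRestrict
  have hUV : U * V = P := by
    rw [← LinearMap.toMatrix_comp (Pi.basisFun k ι) b (Pi.basisFun k ι)]
    show LinearMap.toMatrix (Pi.basisFun k ι) (Pi.basisFun k ι) f = P
    simp [f]
  have hVU : V * U = 1 := by
    rw [← LinearMap.toMatrix_comp b (Pi.basisFun k ι) b]
    have : f.rangeRestrict ∘ₗ W.subtype = LinearMap.id := by
      refine LinearMap.ext fun w => Subtype.ext ?_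
      obtain ⟨x, hx⟩ := w.2
      show f w.1 = w.1
      rw [← hx]
      show (Matrix.toLin' P).comp (Matrix.toLin' P) x = Matrix.toLin' P x
      rw [← Matrix.toLin'_mul, hP]
    rw [this, LinearMap.toMatrix_id]
  refine ⟨Module.finrank k W, Nat.one_le_iff_ne_zero.2 fun h => hne ?_, fun S _ _ t => ?_⟩
  · have h0 : W = ⊥ := Submodule.finrank_eq_zero.1 h
    have : f = 0 := LinearMap.range_eq_bot.1 h0
    exact Matrix.toLin'.injective (by rw [map_zero]; exact this)
  · have e : t • P.map (algebraMap k S) + (1 - P.map (algebraMap k S)) =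
        1 + U.map (algebraMap k S) * ((t - 1) • V.map (algebraMap k S)) := by
      rw [Matrix.mul_smul, ← Matrix.map_mul, hUV, sub_smul, one_smul]
      abel
    rw [e, Matrix.det_one_add_mul_comm, Matrix.smul_mul, ← Matrix.map_mul, hVU,
      Matrix.map_one _ (map_zero _) (map_one _),
      show (1 : Matrix (Fin (Module.finrank k W)) (Fin (Module.finrank k W)) S) + (t - 1) • 1 = t • 1
        by rw [sub_smul, one_smul]; abel, Matrix.det_smul, Matrix.det_one, Fintype.card_fin, mul_one]

/-- `P`-part of a matrix, completed by the identity -/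
def blk {C : Type u} [CommRing C] (Q X : Matrix J J C) : Matrix J J C := X * Q + (1 - Q)

lemma blk_mul {C : Type u} [CommRing C] {Q X Y : Matrix J J C} (hQ : Q * Q = Q)
    (hY : Q * Y = Y * Q) : blk Q X * blk Q Y = blk Q (X * Y) := by
  have h1 : X * Q * (Y * Q) = X * Y * Q := by
    calc X * Q * (Y * Q) = X * (Q * Y) * Q := by simp only [Matrix.mul_assoc]
      _ = X * Y * (Q * Q) := by rw [hY]; simp only [Matrix.mul_assoc]
      _ = _ := by rw [hQ]
  have h2 : X * Q * (1 - Q) = 0 := by
    rw [Matrix.mul_sub, Matrix.mul_one, Matrix.mul_assoc, hQ, sub_self]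
  have h3 : (1 - Q) * (Y * Q) = 0 := by
    rw [Matrix.sub_mul, Matrix.one_mul, ← Matrix.mul_assoc, hY, Matrix.mul_assoc, hQ, sub_self]
  have h4 : (1 - Q) * (1 - Q) = 1 - Q := by
    rw [Matrix.sub_mul, Matrix.one_mul, Matrix.mul_sub, Matrix.mul_one, hQ, sub_self, sub_zero]
  simp only [blk, Matrix.add_mul, Matrix.mul_add, h1, h2, h3, h4, add_zero, zero_add]

/-- A central homomorphism `𝔾_m → G` which is a closed immersion, seen through its map on
functions `ι`, admits a character of `G` whose restriction is a positive power. -/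
theorem exists_char (ι : A →ₐ[k] k[T;T⁻¹]) (hsurj : Function.Surjective ι)
    (hmul : ∀ (C : Type u) [CommRing C] [Algebra k C] (v w : Cˣ),
      toConv ((pt (v * w)).comp ι) = toConv ((pt v).comp ι) * toConv ((pt w).comp ι))
    (hcent : ∀ (C : Type u) [CommRing C] [Algebra k C] (v : Cˣ) (g : WithConv (A →ₐ[k] C)),
      toConv ((pt v).comp ι) * g = g * toConv ((pt v).comp ι)) :
    ∃ (u : Aˣ) (n : ℕ), 1 ≤ n ∧
      (∀ (C : Type u) [CommRing C] [Algebra k C] (g h : WithConv (A →ₐ[k] C)),
        (g * h).ofConv (u : A) = g.ofConv (u : A) * h.ofConv (u : A)) ∧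
      (∀ (C : Type u) [CommRing C] [Algebra k C],
        (1 : WithConv (A →ₐ[k] C)).ofConv (u : A) = 1) ∧
      ι (u : A) = T (n : ℤ) := by
  classical
  obtain ⟨f, hf⟩ := hsurj (T 1)
  obtain ⟨J, _, _, c, hΔ, hε, hspan⟩ := exists_coef_span (k := k) A f
  let P : Matrix J J k := fun i j => co k (ι (c i j))
  -- the coefficient of `T` in the points `s * T`
  have hco : ∀ (R : Type u) [CommRing R] [Algebra k R] (s : Rˣ) (x : k[T;T⁻¹]),
      co R (pt (Units.map (LaurentPolynomial.C (R := R)).toMonoidHom s * unitT R) x) =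
        co k x • (s : R) := by
    intro R _ _ s x
    induction x using LaurentPolynomial.induction_on' with
    | add p q hp hq => rw [map_add, map_add, map_add, hp, hq, add_smul]
    | C_mul_T a r =>
      rw [map_mul, pt_T, show LaurentPolynomial.C r = algebraMap k k[T;T⁻¹] r from
        (LaurentPolynomial.C_eq_algebraMap r), AlgHom.commutes, mul_zpow, Units.val_mul,
        coe_unitT_zpow, ← map_zpow, LaurentPolynomial.algebraMap_apply,
        LaurentPolynomial.algebraMap_apply, Units.coe_map, Algebra.algebraMap_self, RingHom.id_apply]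
      show co R (LaurentPolynomial.C (algebraMap k R r) * (LaurentPolynomial.C ((s ^ a : Rˣ) : R) * T a)) = _
      rw [← _root_.mul_assoc, ← map_mul, co_C_mul, co_T, co_C_mul, co_T, Algebra.smul_def]
      split_ifs with ha
      · subst ha; simp
      · simp
  let M : Matrix J J k[T;T⁻¹] := c.map ι
  have hM : ∀ {R : Type u} [CommRing R] [Algebra k R] (v : Rˣ),
      mat c (toConv ((pt v).comp ι)) = M.map (pt v) := fun v => mat_comp c ι (pt v)
  have hcoMap : ∀ (R : Type u) [CommRing R] [Algebra k R] (s : Rˣ),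
      (M.map (pt (Units.map (LaurentPolynomial.C (R := R)).toMonoidHom s * unitT R))).map (co R) =
        (s : R) • P.map (algebraMap k R) := by
    intro R _ _ s
    ext i j
    show co R (pt _ (ι (c i j))) = (s : R) * algebraMap k R (co k (ι (c i j)))
    rw [hco, Algebra.smul_def, _root_.mul_comm]
  have hcoMap1 : ∀ (R : Type u) [CommRing R] [Algebra k R],
      (M.map (pt (unitT R))).map (co R) = P.map (algebraMap k R) := by
    intro R _ _
    simpa using hcoMap R 1
  have hMP : M * P.map (algebraMap k k[T;T⁻¹]) = (T 1 : k[T;T⁻¹]) • P.map (algebraMap k k[T;T⁻¹]) := by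
    let L := k[T;T⁻¹]
    have h := congrArg (fun g => (mat c g).map (co L))
      (hmul L[T;T⁻¹] (Units.map (LaurentPolynomial.C (R := L)).toMonoidHom (unitT k)) (unitT L))
    simp only [mat_mul c hΔ, hM] at h
    rw [hcoMap L (unitT k), coe_unitT] at h
    rw [h]
    refine Matrix.ext fun i j => ?_
    have hs : ∀ x : L, pt (k := k) (Units.map (LaurentPolynomial.C (R := L)).toMonoidHom (unitT k)) x =
        LaurentPolynomial.C x := by
      intro x
      have : pt (k := k) (Units.map (LaurentPolynomial.C (R := L)).toMonoidHom (unitT k)) =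
          IsScalarTower.toAlgHom k L L[T;T⁻¹] := algHom_ext_T (by
        rw [pt_T, zpow_one]
        show LaurentPolynomial.C (unitT k : L) = _
        rw [coe_unitT]; rfl)
      rw [this]; rfl
    simp only [Matrix.mul_apply, Matrix.map_apply, map_sum, hs, co_C_mul]
    refine Finset.sum_congr rfl fun l _ => ?_
    congr 1
    have := congr($(hcoMap1 L) l j)
    simp only [Matrix.map_apply] at this
    exact this.symm
  have hPP : P * P = P := by
    ext i j
    have h := congrArg (co k) congr($hMP i j)
    simp only [Matrix.mul_apply, Matrix.map_apply, map_sum, Matrix.smul_apply, smul_eq_mul,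
      ← C_eq_algebraMap, co_mul_C, co_T] at h
    rw [Matrix.mul_apply]
    exact h.trans (by simp)
  have hPne : P ≠ 0 := by
    intro h0
    have key : ∀ x ∈ Submodule.span k (Set.range fun p : J × J => c p.1 p.2), co k (ι x) = 0 := by
      intro x hx
      induction hx using Submodule.span_induction with
      | mem x hx => obtain ⟨p, rfl⟩ := hx; exact congr($h0 p.1 p.2)
      | zero => simp
      | add x y _ _ hx hy => rw [map_add, map_add, hx, hy, add_zero]
      | smul r x _ hx =>
        rw [map_smul, Algebra.smul_def, ← C_eq_algebraMap, co_C_mul, hx, mul_zero]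
    have := key f hspan
    rw [hf, co_T] at this
    simp at this
  have hPA : P.map (algebraMap k A) * P.map (algebraMap k A) = P.map (algebraMap k A) := by
    rw [← Matrix.map_mul, hPP]
  have hPc : P.map (algebraMap k A) * c = c * P.map (algebraMap k A) := by
    let g : WithConv (A →ₐ[k] A[T;T⁻¹]) := toConv (IsScalarTower.toAlgHom k A A[T;T⁻¹])
    have h := congrArg (fun g => (mat c g).map (co A)) (hcent A[T;T⁻¹] (unitT A) g)
    simp only [mat_mul c hΔ, hM] at h
    have hg : mat c g = c.map (LaurentPolynomial.C (R := A)) := rfl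
    rw [hg] at h
    have hP' := hcoMap1 A
    ext i j
    have h1 := congr($h i j)
    simp only [Matrix.mul_apply, Matrix.map_apply, map_sum, co_mul_C, co_C_mul] at h1
    simp only [Matrix.mul_apply, ← hP', Matrix.map_apply]
    exact h1
  let P' : ∀ (C : Type u) [CommRing C] [Algebra k C], Matrix J J C := fun C _ _ => P.map (algebraMap k C)
  have hcomm : ∀ (C : Type u) [CommRing C] [Algebra k C] (g : WithConv (A →ₐ[k] C)),
      P' C * mat c g = mat c g * P' C := by
    intro C _ _ g
    have h := congrArg (fun X : Matrix J J A => X.map g.ofConv) hPc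
    simp only [Matrix.map_mul] at h
    have e : (P.map (algebraMap k A)).map g.ofConv = P' C := by
      ext i j; simp [P']
    rw [e] at h
    exact h
  let u : A := (blk (P' A) c).det
  have hu : ∀ (C : Type u) [CommRing C] [Algebra k C] (g : WithConv (A →ₐ[k] C)),
      g.ofConv u = (blk (P' C) (mat c g)).det := by
    intro C _ _ g
    show g.ofConv (blk (P' A) c).det = _
    rw [AlgHom.map_det]
    congr 1
    ext i j
    simp [blk, mat, P', Matrix.mul_apply, Matrix.one_apply, apply_ite g.ofConv]
  have hgh : ∀ (C : Type u) [CommRing C] [Algebra k C] (g h : WithConv (A →ₐ[k] C)),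
      (g * h).ofConv u = g.ofConv u * h.ofConv u := by
    intro C _ _ g h
    rw [hu, hu, hu, mat_mul c hΔ, ← Matrix.det_mul, blk_mul _ (hcomm C h)]
    rw [show P' C * P' C = P' C from by simp only [P']; rw [← Matrix.map_mul, hPP]]
  have h1 : ∀ (C : Type u) [CommRing C] [Algebra k C], (1 : WithConv (A →ₐ[k] C)).ofConv u = 1 := by
    intro C _ _
    rw [hu, mat_one c hε, blk, Matrix.one_mul, add_sub_cancel, Matrix.det_one]
  have hunit : IsUnit u := by
    have := hgh A (toConv (AlgHom.id k A)) (toConv (AlgHom.id k A))⁻¹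
    rw [mul_inv_cancel, h1] at this
    exact IsUnit.of_mul_eq_one _ this.symm
  obtain ⟨n, hn, hdet⟩ := det_smul_idem P hPP hPne
  refine ⟨hunit.unit, n, hn, fun C _ _ g h => by simpa using hgh C g h, fun C _ _ => by
    simpa using h1 C, ?_⟩
  rw [IsUnit.unit_spec, hu _ (toConv ι)]
  show (blk (P' k[T;T⁻¹]) M).det = _
  rw [blk, hMP, hdet, T_pow, mul_one]

end Groth.Agent.GmChar
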