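import Mathlib
import Groth.Prelude.Def_Red

/-!
# Points of affine group schemes and of diagonalisable groups with values in algebras

* `spMap`: the morphism `Spec C ⟶ Spec A` over `Spec R` of an `R`-algebra map.
* `dsPts`: the points of `D(M)` with values in `Spec C` are the homomorphisms `M → (C, *)`,
  multiplicatively and naturally in `C`.
-/

suppress_compilation

universe u

open CategoryTheory MonoidalCategory CartesianMonoidalCategory MonObj GrpObj AlgebraicGeometry Limits
open WithConv
open scoped CategoryTheory.Obj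

namespace Groth.Agent.GmChar

/-- every ring is an algebra over the integers lifted to the universe `u` -/
@[reducible] def zlAlg (C : Type u) [CommRing C] : Algebra (ULift.{u} ℤ) C :=
  RingHom.toAlgebra ((Int.castRingHom C).comp ULift.ringEquiv.toRingHom)

section Base

variable {R : Type u} [CommRing R]

variable (R) in
/-- `Spec C` over `Spec R` -/
abbrev sp (C : Type u) [CommRing C] [Algebra R C] : Over (Spec (CommRingCat.of R)) :=
  (Spec (CommRingCat.of C)).asOver (Spec (CommRingCat.of R))

variable {A B C : Type u} [CommRing A] [CommRing B] [CommRing C] [Algebra R A] [Algebra R B]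
  [Algebra R C]

/-- the morphism of an algebra map -/
def spMap (φ : A →ₐ[R] B) : sp R B ⟶ sp R A :=
  (Spec.map (CommRingCat.ofHom φ.toRingHom)).asOver _

@[simp] lemma spMap_left (φ : A →ₐ[R] B) :
    (spMap φ).left = Spec.map (CommRingCat.ofHom φ.toRingHom) := rfl

@[simp] lemma spMap_id : spMap (AlgHom.id R A) = 𝟙 (sp R A) := by
  ext1
  show Spec.map (CommRingCat.ofHom (RingHom.id A)) = _
  simp
  rfl

lemma spMap_comp (φ : A →ₐ[R] B) (ψ : B →ₐ[R] C) :
    spMap (ψ.comp φ) = spMap ψ ≫ spMap φ := by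
  ext1
  show Spec.map (CommRingCat.ofHom (ψ.toRingHom.comp φ.toRingHom)) = _
  rw [CommRingCat.ofHom_comp, Spec.map_comp]
  rfl

lemma spMap_injective : Function.Injective (spMap : (A →ₐ[R] B) → (sp R B ⟶ sp R A)) := by
  intro φ ψ h
  have h1 := congrArg (fun x : sp R B ⟶ sp R A => x.left) h
  simp only [spMap_left] at h1
  have h2 := Spec.map_injective h1
  ext a
  exact congr($h2 a)

lemma exists_spMap (x : sp R B ⟶ sp R A) : ∃ φ : A →ₐ[R] B, spMap φ = x := by
  let xl : Spec (CommRingCat.of B) ⟶ Spec (CommRingCat.of A) := x.left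
  have hw : xl ≫ Spec.map (CommRingCat.ofHom (algebraMap R A)) =
      Spec.map (CommRingCat.ofHom (algebraMap R B)) := Over.w x
  refine ⟨⟨(Spec.preimage xl).hom, ?_⟩, ?_⟩
  · suffices CommRingCat.ofHom (algebraMap R A) ≫ Spec.preimage xl =
      CommRingCat.ofHom (algebraMap R B) from fun r ↦ congr($this r)
    apply Spec.map_injective
    rw [Spec.map_comp, Spec.map_preimage]
    exact hw
  · ext1
    exact Spec.map_preimage xl

lemma spMap_mul {H : Type u} [CommRing H] [Bialgebra R H] (f g : WithConv (H →ₐ[R] B)) :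
    spMap (f * g).ofConv = spMap f.ofConv * spMap g.ofConv :=
  map_mul (AlgebraicGeometry.Spec.mapMulEquiv (R := R) (S := H) (T := B)) f g

lemma spMap_one {H : Type u} [CommRing H] [Bialgebra R H] :
    spMap (1 : WithConv (H →ₐ[R] B)).ofConv = (1 : sp R B ⟶ sp R H) :=
  map_one (AlgebraicGeometry.Spec.mapMulEquiv (R := R) (S := H) (T := B))

end Base

section DS

variable {R : Type u} [CommRing R]
variable (M : Type) [AddCommGroup M]
variable {A B C : Type u} [CommRing A] [CommRing B] [CommRing C] [Algebra R A] [Algebra R B]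
  [Algebra R C]

variable (R) in
/-- the morphism to `Spec ℤ` -/
abbrev toZ : Spec (CommRingCat.of R) ⟶ Spec (CommRingCat.of (ULift.{u} ℤ)) :=
  IsTerminal.from specULiftZIsTerminal _

/-- `Spec C` over the integers -/
def zIso : letI := zlAlg C
    (Over.map (toZ R)).obj (sp R C) ≅ sp (ULift.{u} ℤ) C :=
  letI := zlAlg C
  Over.isoMk (Iso.refl _) (specULiftZIsTerminal.hom_ext _ _)

lemma homEquiv_symm_mul {X : Over (Spec (CommRingCat.of R))}
    {G : Over (Spec (CommRingCat.of (ULift.{u} ℤ)))} [GrpObj G]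
    (x y : X ⟶ (Over.pullback (toZ R)).obj G) :
    ((Over.mapPullbackAdj (toZ R)).homEquiv X G).symm (x * y) =
      ((Over.mapPullbackAdj (toZ R)).homEquiv X G).symm x *
        ((Over.mapPullbackAdj (toZ R)).homEquiv X G).symm y := by
  obtain ⟨a, rfl⟩ := ((Over.mapPullbackAdj (toZ R)).homEquiv X G).surjective x
  obtain ⟨b, rfl⟩ := ((Over.mapPullbackAdj (toZ R)).homEquiv X G).surjective y
  rw [Equiv.symm_apply_apply, Equiv.symm_apply_apply, Equiv.symm_apply_eq]
  simp only [Adjunction.homEquiv_unit, Functor.map_mul, MonObj.comp_mul]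

lemma lift_symm_mul (H : Type u) [CommRing H] [Algebra (ULift.{u} ℤ) H]
    (f g : WithConv (MonoidAlgebra (ULift.{u} ℤ) (Multiplicative M) →ₐ[ULift.{u} ℤ] H)) :
    (MonoidAlgebra.lift (ULift.{u} ℤ) H (Multiplicative M)).symm (f * g).ofConv =
      (MonoidAlgebra.lift (ULift.{u} ℤ) H (Multiplicative M)).symm f.ofConv *
      (MonoidAlgebra.lift (ULift.{u} ℤ) H (Multiplicative M)).symm g.ofConv := by
  refine MonoidHom.ext fun m => ?_
  simp [AlgHom.convMul_def]

variable (R C) in
/-- the ring map of a point of `D(M)` -/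
def dsRing (x : sp R C ⟶ Red.DS (Spec (CommRingCat.of R)) M) :
    MonoidAlgebra (ULift.{u} ℤ) (Multiplicative M) →+* C :=
  (Spec.preimage (R := CommRingCat.of (MonoidAlgebra (ULift.{u} ℤ) (Multiplicative M)))
    (S := CommRingCat.of C) (x.left ≫ pullback.fst _ _)).hom

lemma Spec_map_dsRing (x : sp R C ⟶ Red.DS (Spec (CommRingCat.of R)) M) :
    Spec.map (CommRingCat.ofHom (dsRing R M C x)) = x.left ≫ pullback.fst _ _ :=
  Spec.map_preimage _

lemma zl_commutes {H K : Type u} [CommRing H] [CommRing K] [Algebra (ULift.{u} ℤ) H]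
    [Algebra (ULift.{u} ℤ) K] (f : H →+* K) (r : ULift.{u} ℤ) :
    f (algebraMap (ULift.{u} ℤ) H r) = algebraMap (ULift.{u} ℤ) K r := by
  have h : (f.comp (algebraMap (ULift.{u} ℤ) H)).comp ULift.ringEquiv.symm.toRingHom =
      (algebraMap (ULift.{u} ℤ) K).comp ULift.ringEquiv.symm.toRingHom := RingHom.ext_int _ _
  exact congr($h r.down)

variable (R C) in
/-- a point of `D(M)` as a point over the integers -/
def dsAlg (x : sp R C ⟶ Red.DS (Spec (CommRingCat.of R)) M) : letI := zlAlg C
    MonoidAlgebra (ULift.{u} ℤ) (Multiplicative M) →ₐ[ULift.{u} ℤ] C :=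
  letI := zlAlg C
  { dsRing R M C x with commutes' := fun r => zl_commutes (dsRing R M C x) r }

lemma spMap_dsAlg (x : sp R C ⟶ Red.DS (Spec (CommRingCat.of R)) M) :
    letI := zlAlg C
    spMap (dsAlg R M C x) = (zIso (R := R) (C := C)).inv ≫
      ((Over.mapPullbackAdj (toZ R)).homEquiv _ _).symm x := by
  apply Over.OverMorphism.ext
  show Spec.map (CommRingCat.ofHom (dsRing R M C x)) = 𝟙 _ ≫ (x.left ≫ pullback.fst _ _)
  rw [Category.id_comp, Spec_map_dsRing]

lemma dsAlg_mul (x y : sp R C ⟶ Red.DS (Spec (CommRingCat.of R)) M) :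
    letI := zlAlg C
    toConv (dsAlg R M C (x * y)) = toConv (dsAlg R M C x) * toConv (dsAlg R M C y) := by
  let := zlAlg C
  apply WithConv.ofConv_injective
  apply spMap_injective
  have hm := spMap_mul (R := ULift.{u} ℤ) (toConv (dsAlg R M C x)) (toConv (dsAlg R M C y))
  have hx := spMap_dsAlg M x
  have hy := spMap_dsAlg M y
  have hxy := spMap_dsAlg M (x * y)
  rw [ofConv_toConv, hxy]
  rw [ofConv_toConv, ofConv_toConv, hx, hy] at hm
  have hh := homEquiv_symm_mul (R := R) (G := Red.diag (ULift.{u} ℤ) M) x y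
  refine Eq.trans (congrArg ((zIso (R := R) (C := C)).inv ≫ ·) hh) ?_
  rw [hm]
  exact MonObj.comp_mul _ _ _

variable (R C) in
/-- the character of a point of `D(M)` -/
def dsChar (x : sp R C ⟶ Red.DS (Spec (CommRingCat.of R)) M) : Multiplicative M →* C :=
  ((dsRing R M C x).toMonoidHom).comp (MonoidAlgebra.of (ULift.{u} ℤ) (Multiplicative M))

lemma dsChar_apply (x : sp R C ⟶ Red.DS (Spec (CommRingCat.of R)) M) (m : Multiplicative M) :
    dsChar R M C x m = dsRing R M C x (MonoidAlgebra.single m 1) := rfl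

lemma dsChar_mul (x y : sp R C ⟶ Red.DS (Spec (CommRingCat.of R)) M) :
    dsChar R M C (x * y) = dsChar R M C x * dsChar R M C y := by
  let := zlAlg C
  have h := congrArg (fun f => (MonoidAlgebra.lift (ULift.{u} ℤ) C (Multiplicative M)).symm
    (WithConv.ofConv f)) (dsAlg_mul M x y)
  simp only [lift_symm_mul] at h
  exact h

lemma dsChar_injective : Function.Injective (dsChar R M C) := by
  intro x y h
  have hr : dsRing R M C x = dsRing R M C y := by
    refine MonoidAlgebra.ringHom_ext (fun r => ?_) fun m => ?_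
    · let := zlAlg C
      have e : MonoidAlgebra.single (1 : Multiplicative M) r = algebraMap (ULift.{u} ℤ) _ r := rfl
      rw [e, zl_commutes, zl_commutes]
    · exact congr($h m)
  apply Over.OverMorphism.ext
  apply pullback.hom_ext
  · rw [← Spec_map_dsRing, ← Spec_map_dsRing, hr]
  · exact (Over.w x).trans (Over.w y).symm

lemma dsChar_surjective : Function.Surjective (dsChar R M C) := by
  intro F
  let := zlAlg C
  let f : MonoidAlgebra (ULift.{u} ℤ) (Multiplicative M) →+* C :=
    (MonoidAlgebra.lift (ULift.{u} ℤ) C (Multiplicative M) F).toRingHom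
  let x : sp R C ⟶ Red.DS (Spec (CommRingCat.of R)) M :=
    Over.homMk (pullback.lift (Spec.map (CommRingCat.ofHom f))
      ((Spec (CommRingCat.of C)) ↘ Spec (CommRingCat.of R)) (specULiftZIsTerminal.hom_ext _ _))
      (pullback.lift_snd _ _ _)
  have hr : dsRing R M C x = f := by
    have h1 : Spec.map (CommRingCat.ofHom (dsRing R M C x)) = Spec.map (CommRingCat.ofHom f) := by
      rw [Spec_map_dsRing]
      exact pullback.lift_fst _ _ _
    exact congrArg CommRingCat.Hom.hom (Spec.map_injective h1)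
  refine ⟨x, MonoidHom.ext fun m => ?_⟩
  rw [dsChar_apply, hr]
  show MonoidAlgebra.lift (ULift.{u} ℤ) C (Multiplicative M) F (MonoidAlgebra.single m 1) = _
  rw [MonoidAlgebra.lift_single, Algebra.smul_def, map_one, _root_.one_mul]

variable (R C) in
/-- points of `D(M)` with values in `Spec C` are the characters of `M` with values in `C` -/
def dsPts : (sp R C ⟶ Red.DS (Spec (CommRingCat.of R)) M) ≃* (Multiplicative M →* C) :=
  { Equiv.ofBijective (dsChar R M C) ⟨dsChar_injective M, dsChar_surjective M⟩ with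
    map_mul' := dsChar_mul M }

lemma dsPts_apply (x : sp R C ⟶ Red.DS (Spec (CommRingCat.of R)) M) :
    dsPts R M C x = dsChar R M C x := rfl

lemma dsPts_nat (φ : C →ₐ[R] B) (x : sp R C ⟶ Red.DS (Spec (CommRingCat.of R)) M)
    (m : Multiplicative M) :
    dsPts R M B (spMap φ ≫ x) m = φ (dsPts R M C x m) := by
  have h : dsRing R M B (spMap φ ≫ x) = φ.toRingHom.comp (dsRing R M C x) := by
    have h1 : Spec.map (CommRingCat.ofHom (dsRing R M B (spMap φ ≫ x))) =
        Spec.map (CommRingCat.ofHom (φ.toRingHom.comp (dsRing R M C x))) := by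
      rw [Spec_map_dsRing, CommRingCat.ofHom_comp, Spec.map_comp, Spec_map_dsRing]
      exact Category.assoc _ _ _
    exact congrArg CommRingCat.Hom.hom (Spec.map_injective h1)
  rw [dsPts_apply, dsPts_apply, dsChar_apply, dsChar_apply]
  rw [h]
  rfl

end DS

end Groth.Agent.GmChar
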